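import Groth.Agent.LocalIso.Basic

/-!
# A finite type morphism which is an isomorphism on a local ring is a local isomorphism
-/

set_option autoImplicit false

universe u

open CategoryTheory CategoryTheory.Limits AlgebraicGeometry

namespace Groth.Agent.LocalIso

theorem finite_irreducibleComponents_of_isOpenEmbedding {Y X : Type u} [TopologicalSpace Y]
    [TopologicalSpace X] {j : Y → X} (hj : Topology.IsOpenEmbedding j)
    (hX : (irreducibleComponents X).Finite) : (irreducibleComponents Y).Finite := by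
  refine (hX.image (fun t => j ⁻¹' t)).subset fun C hC => ?_
  obtain ⟨Z, hZ, hCZ⟩ :=
    exists_mem_irreducibleComponents_subset_of_isIrreducible (j '' C) (hC.1.image j hj.continuous.continuousOn)
  obtain ⟨y, hy⟩ := hC.1.1
  have h2 : j ⁻¹' Z ∈ irreducibleComponents Y :=
    preimage_mem_irreducibleComponents hZ hj ⟨j y, hCZ ⟨y, hy, rfl⟩, y, rfl⟩
  exact ⟨Z, hZ, (Set.image_subset_iff.mp hCZ).antisymm' (hC.2 h2.1 (Set.image_subset_iff.mp hCZ))⟩

theorem isIso_stalkMap_congr {X Y : Scheme.{u}} {f g : X ⟶ Y} (h : f = g) (x : X)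
    (hi : IsIso (f.stalkMap x)) : IsIso (g.stalkMap x) := by
  subst h; exact hi

theorem bijective_localRingHom_of_isIso {R S : CommRingCat.{u}} (φ : R ⟶ S) (P : PrimeSpectrum S)
    (h : IsIso ((Spec.map φ).stalkMap P)) :
    Function.Bijective (Localization.localRingHom (P.asIdeal.comap φ.hom) P.asIdeal φ.hom rfl) := by
  have h2 : IsIso (CommRingCat.ofHom (Localization.localRingHom
      (P.comap φ.hom).asIdeal P.asIdeal φ.hom rfl)) :=
    ((MorphismProperty.isomorphisms CommRingCat).arrow_mk_iso_iff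
      (Scheme.arrowStalkMapSpecIso φ P)).mp h
  exact ConcreteCategory.bijective_of_isIso (CommRingCat.ofHom (Localization.localRingHom
      (P.comap φ.hom).asIdeal P.asIdeal φ.hom rfl))

theorem exists_isOpenImmersion_affine {X S : Scheme.{u}} (f : X ⟶ S) [LocallyOfFiniteType f]
    [IsReduced S] (hS : (irreducibleComponents (S : Type u)).Finite) (x : X)
    (hx : IsIso (f.stalkMap x)) : ∃ U : X.Opens, x ∈ U ∧ IsOpenImmersion (U.ι ≫ f) := by
  obtain ⟨V, hV, hxV, -⟩ := exists_isAffineOpen_mem_and_subset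
    (TopologicalSpace.Opens.mem_top (f.base x))
  obtain ⟨U, hU, hxU, hUV⟩ := exists_isAffineOpen_mem_and_subset (show x ∈ f ⁻¹ᵁ V from hxV)
  have hUV' : U ≤ f ⁻¹ᵁ V := hUV
  set φ := f.appLE V U hUV'
  set P : PrimeSpectrum Γ(X, U) := hU.primeIdealOf ⟨x, hxU⟩
  have hsq : Spec.map φ ≫ hV.fromSpec = hU.fromSpec ≫ f := hV.SpecMap_appLE_fromSpec f hU hUV'
  have hPx : hU.fromSpec P = x := hU.fromSpec_primeIdealOf ⟨x, hxU⟩
  have h1 : IsIso ((hU.fromSpec ≫ f).stalkMap P) := by
    rw [Scheme.Hom.stalkMap_comp]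
    have : IsIso (f.stalkMap (hU.fromSpec P)) := by rw [hPx]; exact hx
    exact IsIso.comp_isIso' this inferInstance
  have h2 := isIso_stalkMap_congr hsq.symm P h1
  rw [Scheme.Hom.stalkMap_comp] at h2
  have h3 : IsIso ((Spec.map φ).stalkMap P) :=
    @IsIso.of_isIso_comp_left _ _ _ _ _ (hV.fromSpec.stalkMap (Spec.map φ P))
      ((Spec.map φ).stalkMap P) inferInstance h2
  let : Algebra Γ(S, V) Γ(X, U) := φ.hom.toAlgebra
  have : Algebra.FiniteType Γ(S, V) Γ(X, U) := f.finiteType_appLE hV hU hUV'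
  have hfin : (irreducibleComponents (PrimeSpectrum Γ(S, V))).Finite :=
    finite_irreducibleComponents_of_isOpenEmbedding hV.fromSpec.isOpenEmbedding hS
  have : Finite ↥(minimalPrimes Γ(S, V)) := by
    have := hfin.to_subtype
    exact Finite.of_equiv _ (minimalPrimes.equivIrreducibleComponents Γ(S, V)).toEquiv.symm
  obtain ⟨t, ht, htk⟩ := exists_kills_kernel (P.asIdeal.comap (algebraMap Γ(S, V) Γ(X, U)))
  obtain ⟨a, h, hh, hloc⟩ :=
    exists_away P.asIdeal (bijective_localRingHom_of_isIso φ P h3) t ht htk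
  set ψ : Γ(X, U) ⟶ CommRingCat.of (Localization.Away h) :=
    CommRingCat.ofHom (algebraMap Γ(X, U) (Localization.Away h))
  have hcomp : φ ≫ ψ = CommRingCat.ofHom (algebraMap Γ(S, V) (Localization.Away h)) := by
    ext1; exact (IsScalarTower.algebraMap_eq Γ(S, V) Γ(X, U) (Localization.Away h)).symm
  have i1 : IsOpenImmersion (Spec.map ψ) := IsOpenImmersion.of_isLocalization h
  have i2 : IsOpenImmersion (Spec.map (φ ≫ ψ)) := by
    rw [hcomp]
    have := @IsOpenImmersion.of_isLocalization Γ(S, V) (Localization.Away h) _ _ _ a hloc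
    exact this
  have hj : IsOpenImmersion ((Spec.map ψ ≫ hU.fromSpec) ≫ f) := by
    rw [Category.assoc, ← hsq, ← Category.assoc, ← Spec.map_comp]
    infer_instance
  refine ⟨(Spec.map ψ ≫ hU.fromSpec).opensRange, ?_, ?_⟩
  · have hm : P ∈ Set.range (PrimeSpectrum.comap (algebraMap Γ(X, U) (Localization.Away h))) := by
      rw [PrimeSpectrum.localization_away_comap_range (Localization.Away h) h]; exact hh
    obtain ⟨Q, hQ⟩ := hm
    refine ⟨Q, ?_⟩
    rw [Scheme.Hom.comp_apply]
    exact (congrArg hU.fromSpec hQ).trans hPx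
  · rw [← Scheme.Hom.isoOpensRange_inv_comp, Category.assoc]
    infer_instance

end Groth.Agent.LocalIso
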