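import Mathlib

/-!
# A morphism of finite type inducing an isomorphism of local rings is a local isomorphism
(reduced base with finitely many components)
-/

set_option autoImplicit false

universe u

open CategoryTheory CategoryTheory.Limits AlgebraicGeometry

namespace Groth.Agent.LocalIso

theorem exists_kills_kernel {A : Type u} [CommRing A] [IsReduced A] [Finite ↥(minimalPrimes A)]
    (p : Ideal A) [hp : p.IsPrime] :
    ∃ t : A, t ∉ p ∧ ∀ x, algebraMap A (Localization.AtPrime p) x = 0 → t * x = 0 := by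
  classical
  have := Fintype.ofFinite ↥(minimalPrimes A)
  have h : ∀ q : ↥(minimalPrimes A), ∃ y : A, y ∉ p ∧ (¬ q.1 ≤ p → y ∈ q.1) := fun q => by
    by_cases hq : q.1 ≤ p
    · exact ⟨1, fun h => hp.ne_top ((Ideal.eq_top_iff_one _).mpr h), fun h => absurd hq h⟩
    · obtain ⟨y, hy, hy'⟩ := SetLike.not_le_iff_exists.mp hq
      exact ⟨y, hy', fun _ => hy⟩
  choose y hy hy' using h
  refine ⟨∏ q, y q, fun hmem => ?_, fun x hx => ?_⟩
  · obtain ⟨q, -, hq⟩ := hp.prod_mem_iff.mp hmem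
    exact hy q hq
  · obtain ⟨⟨s, hs⟩, hsx⟩ := (IsLocalization.map_eq_zero_iff p.primeCompl (Localization.AtPrime p) x).mp hx
    have hall : (∏ q, y q) * x ∈ sInf (minimalPrimes A) := Ideal.mem_sInf.mpr fun {q} hq => by
      by_cases hle : q ≤ p
      · exact Ideal.mul_mem_left _ _ ((hq.1.1.mem_or_mem (hsx ▸ q.zero_mem)).resolve_left fun h => hs (hle h))
      · exact Ideal.mul_mem_right _ _ (Ideal.prod_mem (I := q) (Finset.mem_univ (⟨q, hq⟩ : ↥(minimalPrimes A)))
          (hy' ⟨q, hq⟩ hle))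
    have e : sInf (minimalPrimes A) = (⊥ : Ideal A).radical := Ideal.sInf_minimalPrimes
    rw [e] at hall
    obtain ⟨n, hn⟩ := hall
    exact eq_zero_of_pow_eq_zero ((Submodule.mem_bot A).mp hn)

theorem exists_away {A B : Type u} [CommRing A] [CommRing B] [Algebra A B] [Algebra.FiniteType A B]
    (q : Ideal B) [q.IsPrime]
    (hbij : Function.Bijective (Localization.localRingHom (q.comap (algebraMap A B)) q (algebraMap A B) rfl))
    (t : A) (ht : t ∉ q.comap (algebraMap A B))
    (htk : ∀ x, algebraMap A (Localization.AtPrime (q.comap (algebraMap A B))) x = 0 → t * x = 0) :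
    ∃ (a : A) (h : B), h ∉ q ∧ IsLocalization.Away a (Localization.Away h) := by
  classical
  set p := q.comap (algebraMap A B)
  obtain ⟨S, hS⟩ := (Algebra.FiniteType.out (R := A) (A := B))
  have hgen : ∀ b : B, ∃ (a s : A) (h : B), s ∉ p ∧ h ∉ q ∧ h * (algebraMap A B s * b) = h * algebraMap A B a := by
    intro b
    obtain ⟨z, hz⟩ := hbij.2 (algebraMap B (Localization.AtPrime q) b)
    obtain ⟨⟨a, ⟨s, hs⟩⟩, h⟩ := IsLocalization.surj p.primeCompl z
    have h' := congrArg (Localization.localRingHom p q (algebraMap A B) rfl) h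
    rw [map_mul, hz, Localization.localRingHom_to_map, Localization.localRingHom_to_map, ← map_mul] at h'
    obtain ⟨⟨c, hc⟩, hc'⟩ := (IsLocalization.eq_iff_exists q.primeCompl (Localization.AtPrime q)).mp h'
    exact ⟨a, s, c, hs, hc, by rw [mul_comm _ b]; exact hc'⟩
  choose an sn hn hsn hhn hrel using hgen
  obtain ⟨T, hTdef⟩ : ∃ T, T = t * ∏ b ∈ S, sn b := ⟨_, rfl⟩
  have hT : T ∉ p := fun h => (Ideal.IsPrime.mem_or_mem (Ideal.comap_isPrime _ _) (hTdef ▸ h)).elim ht fun h2 => by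
    obtain ⟨b, -, hb⟩ := (Ideal.comap_isPrime (algebraMap A B) q).prod_mem_iff.mp h2
    exact hsn b hb
  let h₀ := ∏ b ∈ S, hn b
  have hh₀ : h₀ ∉ q := fun h => by
    obtain ⟨b, -, hb⟩ := ‹q.IsPrime›.prod_mem_iff.mp h
    exact hhn b hb
  let H := algebraMap A B T * h₀
  have hH : H ∉ q := fun h => (‹q.IsPrime›.mem_or_mem h).elim hT hh₀
  let B' := Localization.Away H
  have hHu : IsUnit (algebraMap B B' H) := IsLocalization.Away.algebraMap_isUnit H
  rw [map_mul] at hHu
  have hTu : IsUnit (algebraMap A B' T) := by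
    rw [IsScalarTower.algebraMap_apply A B B']
    exact (IsUnit.mul_iff.mp hHu).1
  have hsu : ∀ b ∈ S, IsUnit (algebraMap A B' (sn b)) ∧ IsUnit (algebraMap B B' (hn b)) := fun b hb => by
    have h1 := (IsUnit.mul_iff.mp hHu).2
    rw [map_prod, IsUnit.prod_iff] at h1
    have h2 := hTu
    rw [hTdef, map_mul, map_prod, IsUnit.mul_iff, IsUnit.prod_iff] at h2
    exact ⟨h2.2 b hb, h1 b hb⟩
  -- every element of `B` is `x / Tᵏ` in `B'`
  have himg : ∀ b : B, ∃ (x : A) (k : ℕ), algebraMap B B' b * algebraMap A B' T ^ k = algebraMap A B' x := by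
    intro b
    have hb : b ∈ Algebra.adjoin A (S : Set B) := hS ▸ Algebra.mem_top
    induction hb using Algebra.adjoin_induction with
    | mem b hb =>
      refine ⟨an b * (t * ∏ c ∈ S.erase b, sn c), 1, ?_⟩
      have hr := congrArg (algebraMap B B') (hrel b)
      rw [map_mul, map_mul, map_mul, ← IsScalarTower.algebraMap_apply, ← IsScalarTower.algebraMap_apply] at hr
      have hr' := (hsu b hb).2.mul_left_cancel hr
      rw [pow_one, show T = t * (sn b * ∏ c ∈ S.erase b, sn c) by rw [Finset.mul_prod_erase S sn hb, hTdef]]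
      simp only [map_mul]
      rw [← hr']
      ring
    | algebraMap r => exact ⟨r, 0, by rw [pow_zero, mul_one, ← IsScalarTower.algebraMap_apply]⟩
    | add b c _ _ hb hc =>
      obtain ⟨x, k, hx⟩ := hb
      obtain ⟨y, l, hy⟩ := hc
      refine ⟨x * T ^ l + y * T ^ k, k + l, ?_⟩
      rw [map_add, map_add, map_mul, map_mul, map_pow, map_pow, ← hx, ← hy]
      ring
    | mul b c _ _ hb hc =>
      obtain ⟨x, k, hx⟩ := hb
      obtain ⟨y, l, hy⟩ := hc
      refine ⟨x * y, k + l, ?_⟩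
      rw [map_mul, map_mul, ← hx, ← hy]
      ring
  obtain ⟨c, m, hc⟩ := himg h₀
  have hcu : IsUnit (algebraMap A B' c) := hc ▸ ((IsUnit.mul_iff.mp hHu).2).mul (hTu.pow m)
  refine ⟨T * c, H, hH, ⟨fun y => ?_, fun z => ?_, fun {x y} hxy => ?_⟩⟩
  · obtain ⟨n, hn⟩ := y.2
    simp only at hn
    rw [← hn, map_pow, map_mul]
    exact (hTu.mul hcu).pow n
  · obtain ⟨⟨b, ⟨_, n, rfl⟩⟩, hb⟩ := IsLocalization.surj (Submonoid.powers H) z
    obtain ⟨x, k, hx⟩ := himg b
    refine ⟨⟨x * (T ^ (m * n) * c ^ k), ⟨_, n + k, rfl⟩⟩, ?_⟩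
    show z * algebraMap A B' ((T * c) ^ (n + k)) = algebraMap A B' (x * (T ^ (m * n) * c ^ k))
    simp only at hb
    have e : algebraMap B B' H = algebraMap A B' T * algebraMap B B' h₀ := by
      rw [map_mul, ← IsScalarTower.algebraMap_apply]
    rw [map_pow, e] at hb
    rw [map_pow, map_mul, map_mul, map_mul, map_pow, map_pow, ← hx, ← hb, ← hc]
    ring
  · obtain ⟨z, hz⟩ : ∃ z, z = x - y := ⟨_, rfl⟩
    have h0 : algebraMap A B' z = 0 := by rw [hz, map_sub, hxy, sub_self]
    rw [IsScalarTower.algebraMap_apply A B B', IsLocalization.map_eq_zero_iff (Submonoid.powers H)] at h0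
    obtain ⟨⟨_, n, rfl⟩, hn0⟩ := h0
    have h1 : algebraMap A (Localization.AtPrime p) z = 0 := by
      apply hbij.1
      rw [Localization.localRingHom_to_map, map_zero,
        IsLocalization.map_eq_zero_iff q.primeCompl (Localization.AtPrime q)]
      exact ⟨⟨H ^ n, fun h => hH (‹q.IsPrime›.mem_of_pow_mem n h)⟩, hn0⟩
    refine ⟨⟨_, 1, rfl⟩, ?_⟩
    show (T * c) ^ 1 * x = (T * c) ^ 1 * y
    rw [← sub_eq_zero, ← mul_sub, ← hz, pow_one]
    calc T * c * z = (∏ b ∈ S, sn b) * c * (t * z) := by rw [hTdef]; ring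
      _ = 0 := by rw [htk z h1, mul_zero]

end Groth.Agent.LocalIso
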